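import Groth.Agent.Lib.EtStalk.JCont
import Groth.Agent.Lib.EtStalk.Restr
import Groth.Agent.Lib.EtStalk.FiniteStalk
import Groth.Agent.Lib.LocConst24.PushFinEt
import Groth.Agent.Lib.EtStalk.FiniteSplit
import Mathlib.Algebra.DirectSum.Basic

/-!
# The comparison map from extension by zero to direct image for separated étale morphisms
-/

universe u

set_option maxHeartbeats 800000

open CategoryTheory CategoryTheory.Limits AlgebraicGeometry Opposite
open Groth.Agent.EtSite Groth.Agent.EtStalk

namespace Groth.Agent.ExtShriek24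

/-- A geometric point with image in an open factors through it. -/
theorem exists_lift_opens {Y : Scheme.{u}} (A : Y.Opens) {Ω : Type u} [Field Ω]
    (a : Spec (CommRingCat.of Ω) ⟶ Y) (h : a default ∈ A) :
    ∃ c : Spec (CommRingCat.of Ω) ⟶ A.toScheme, c ≫ A.ι = a :=
  Groth.Agent.LocConst24.comp_eq_of_mem_range A.ι a (by rw [A.range_ι]; exact h)

variable {U X : Scheme.{u}} (j : U ⟶ X) [AlgebraicGeometry.Etale j]

/-- The base change of an étale `U`-scheme seen over `X`. -/
noncomputable abbrev bcComp (V : U.Etale) : U.Etale :=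
  (EtCoh.bc j).obj ((EtShriek.compEtale j).obj V)

/-- The graph. -/
noncomputable def gamma (V : U.Etale) : V ⟶ bcComp j V :=
  MorphismProperty.Over.homMk (pullback.lift (𝟙 V.left) V.hom (Category.id_comp _))
    (pullback.lift_snd _ _ _)

theorem gamma_fst (V : U.Etale) :
    (gamma j V).left ≫ pullback.fst (V.hom ≫ j) j = 𝟙 _ := pullback.lift_fst _ _ _

theorem isOpenImmersion_gamma [IsSeparated j] (V : U.Etale) :
    IsOpenImmersion (gamma j V).left ∧ IsClosedImmersion (gamma j V).left := by
  haveI : AlgebraicGeometry.Etale V.hom := V.prop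
  haveI : AlgebraicGeometry.Etale (pullback.fst (V.hom ≫ j) j) := inferInstance
  haveI : IsSeparated (pullback.fst (V.hom ≫ j) j) := inferInstance
  let g : V.left ⟶ pullback (V.hom ≫ j) j := (gamma j V).left
  have hg : g ≫ pullback.fst (V.hom ≫ j) j = 𝟙 _ := gamma_fst j V
  haveI : AlgebraicGeometry.Etale (g ≫ pullback.fst (V.hom ≫ j) j) := by rw [hg]; infer_instance
  haveI : AlgebraicGeometry.Etale g := Etale.of_comp g (pullback.fst (V.hom ≫ j) j)
  haveI : IsClosedImmersion (g ≫ pullback.fst (V.hom ≫ j) j) := by rw [hg]; infer_instance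
  haveI : IsClosedImmersion g := IsClosedImmersion.of_comp g (pullback.fst (V.hom ≫ j) j)
  exact ⟨IsOpenImmersion.of_flat_of_mono g, inferInstanceAs (IsClosedImmersion g)⟩

/-- A point in the range of the graph comes from `V`. -/
theorem exists_map_gamma [IsSeparated j] {V : U.Etale} {Ω : Type u} [Field Ω] [IsSepClosed Ω]
    {ζ : Spec (CommRingCat.of Ω) ⟶ U} (y : fib ζ (bcComp j V))
    (h : fibPt y ∈ Set.range (gamma j V).left) :
    ∃ z : fib ζ V, (Scheme.pointSmallEtale ζ).fiber.map (gamma j V) z = y := by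
  haveI := (isOpenImmersion_gamma j V).1
  let yl : Spec (CommRingCat.of Ω) ⟶ (bcComp j V).left := y.left
  obtain ⟨c, hc⟩ := Groth.Agent.LocConst24.comp_eq_of_mem_range (gamma j V).left yl h
  refine ⟨Over.homMk c ?_, Over.OverMorphism.ext hc⟩
  show c ≫ V.hom = ζ
  have h1 : (gamma j V).left ≫ (bcComp j V).hom = V.hom := MorphismProperty.Over.w (gamma j V)
  exact (congrArg (c ≫ ·) h1.symm).trans ((Category.assoc _ _ _).symm.trans
    ((congrArg (· ≫ (bcComp j V).hom) hc).trans (Over.w y)))

variable {F : EtCoh.Ab U}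

/-- The characterisation of the section extended by zero off the graph. -/
def IsExt (V : U.Etale) (s : F.obj.obj (op V)) (t : F.obj.obj (op (bcComp j V))) : Prop :=
  F.obj.map (gamma j V).op t = s ∧ ∀ (Ω : Type u) [Field Ω] [IsSepClosed Ω]
    (ζ : Spec (CommRingCat.of Ω) ⟶ U) (y : fib ζ (bcComp j V)),
      fibPt y ∉ Set.range (gamma j V).left → germ ζ F y t = 0

theorem existsUnique_isExt [IsSeparated j] (V : U.Etale) (s : F.obj.obj (op V)) :
    ∃! t, IsExt j V s t := by
  classical
  obtain ⟨ho, hc⟩ := isOpenImmersion_gamma j V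
  haveI := ho
  haveI := hc
  let g : V.left ⟶ (bcComp j V).left := (gamma j V).left
  let A : (bcComp j V).left.Opens := ⟨Set.range g, g.isOpenEmbedding.isOpen_range⟩
  let B : (bcComp j V).left.Opens := ⟨(Set.range g)ᶜ, g.isClosedEmbedding.isClosed_range.isOpen_compl⟩
  let P : ULift.{u} Bool → (bcComp j V).left.Opens := fun b => if b.down then A else B
  have hP : ∀ z, ∃! l, z ∈ P l := fun z => by
    by_cases hz : z ∈ Set.range g
    · refine ⟨⟨true⟩, hz, ?_⟩
      rintro ⟨b⟩ hb
      cases b
      · exact absurd hz hb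
      · rfl
    · refine ⟨⟨false⟩, hz, ?_⟩
      rintro ⟨b⟩ hb
      cases b
      · rfl
      · exact absurd hb hz
  have hrA : Set.range A.ι ⊆ Set.range g := by rw [A.range_ι]; exact le_rfl
  let κl : A.toScheme ⟶ V.left := IsOpenImmersion.lift g A.ι hrA
  have hκ : κl ≫ g = A.ι := IsOpenImmersion.lift_fac _ _ _
  let κ : sub (bcComp j V) A ⟶ V := MorphismProperty.Over.homMk κl (by
    show κl ≫ V.hom = A.ι ≫ (bcComp j V).hom
    rw [← hκ, Category.assoc]
    exact congrArg (κl ≫ ·) (MorphismProperty.Over.w (gamma j V)).symm)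
  let σ : ∀ l, F.obj.obj (op (sub (bcComp j V) (P l))) := fun l =>
    match l with
    | ⟨true⟩ => F.obj.map κ.op s
    | ⟨false⟩ => 0
  obtain ⟨t, ht, htu⟩ := existsUnique_glue_parts F (bcComp j V) P hP σ
  have hext : IsExt j V s t := by
    refine ⟨eq_of_agree F fun v => ?_, fun Ω _ _ ζ y hy => ?_⟩
    · obtain ⟨φ, hφ⟩ := exists_fib V v
      rw [show v = fibPt φ from hφ.symm, mem_agree_iff_germ, germ_map]
      let φl : Spec (CommRingCat.of (SeparableClosure _)) ⟶ V.left := φ.left
      obtain ⟨c, hcA⟩ := exists_lift_opens A (φl ≫ g) ⟨_, rfl⟩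
      let yA : fib _ (sub (bcComp j V) A) := Over.homMk c (by
        show c ≫ A.ι ≫ (bcComp j V).hom = _
        exact (Category.assoc _ _ _).symm.trans ((congrArg (· ≫ (bcComp j V).hom) hcA).trans
          ((Category.assoc _ _ _).trans
            ((congrArg (φl ≫ ·) (MorphismProperty.Over.w (gamma j V))).trans (Over.w φ)))))
      have e1 : (Scheme.pointSmallEtale _).fiber.map (subHom (bcComp j V) A) yA =
          (Scheme.pointSmallEtale _).fiber.map (gamma j V) φ := Over.OverMorphism.ext hcA
      have e2 : (Scheme.pointSmallEtale _).fiber.map κ yA = φ := by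
        refine Over.OverMorphism.ext ((cancel_mono g).1 ?_)
        show ((_ : _ ⟶ _) ≫ κl) ≫ g = φ.left ≫ g
        rw [Category.assoc, hκ]
        exact hcA
      rw [← e1, ← germ_map, show F.obj.map (subHom (bcComp j V) A).op t = F.obj.map κ.op s from ht ⟨true⟩,
        germ_map, e2]
    · let yl : Spec (CommRingCat.of Ω) ⟶ (bcComp j V).left := y.left
      obtain ⟨c, hcB⟩ := exists_lift_opens B yl hy
      let yB : fib ζ (sub (bcComp j V) B) := Over.homMk c (by
        show c ≫ B.ι ≫ (bcComp j V).hom = _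
        exact (Category.assoc _ _ _).symm.trans
          ((congrArg (· ≫ (bcComp j V).hom) hcB).trans (Over.w y)))
      have e1 : (Scheme.pointSmallEtale ζ).fiber.map (subHom (bcComp j V) B) yB = y :=
        Over.OverMorphism.ext hcB
      rw [← e1, ← germ_map, show F.obj.map (subHom (bcComp j V) B).op t = 0 from ht ⟨false⟩, map_zero]
  refine ⟨t, hext, fun t' ht' => ext_germ t' t fun Ω _ _ ζ y => ?_⟩
  by_cases hy : fibPt y ∈ Set.range (gamma j V).left
  · obtain ⟨z, rfl⟩ := exists_map_gamma j y hy
    rw [← germ_map, ← germ_map, ht'.1, hext.1]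
  · rw [ht'.2 Ω ζ y hy, hext.2 Ω ζ y hy]

variable [IsSeparated j]

/-- Extension of a section by zero off the graph. -/
noncomputable def extSec (V : U.Etale) (s : F.obj.obj (op V)) : F.obj.obj (op (bcComp j V)) :=
  (existsUnique_isExt j V s).exists.choose

theorem isExt_extSec (V : U.Etale) (s : F.obj.obj (op V)) : IsExt j V s (extSec j V s) :=
  (existsUnique_isExt j V s).exists.choose_spec

theorem extSec_eq {V : U.Etale} {s : F.obj.obj (op V)} {t : F.obj.obj (op (bcComp j V))}
    (h : IsExt j V s t) : extSec j V s = t :=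
  (existsUnique_isExt j V s).unique (isExt_extSec j V s) h

theorem extSec_add (V : U.Etale) (s s' : F.obj.obj (op V)) :
    extSec j V (s + s') = extSec j V s + extSec j V s' := by
  refine extSec_eq j ⟨?_, fun Ω _ _ ζ y hy => ?_⟩
  · rw [map_add, (isExt_extSec j V s).1, (isExt_extSec j V s').1]
  · rw [map_add, (isExt_extSec j V s).2 Ω ζ y hy, (isExt_extSec j V s').2 Ω ζ y hy, add_zero]

theorem extSec_map {V' V : U.Etale} (g : V' ⟶ V) (s : F.obj.obj (op V)) :
    F.obj.map ((EtCoh.bc j).map ((EtShriek.compEtale j).map g)).op (extSec j V s) =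
      extSec j V' (F.obj.map g.op s) := by
  set G := (EtCoh.bc j).map ((EtShriek.compEtale j).map g)
  have hG : gamma j V' ≫ G = g ≫ gamma j V := by
    refine MorphismProperty.Over.Hom.ext (pullback.hom_ext ?_ ?_)
    · refine (Category.assoc _ _ _).trans ((congrArg (_ ≫ ·) (pullback.lift_fst _ _ _)).trans ?_)
      refine Eq.trans ?_ ((Category.assoc _ _ _).trans ((congrArg (g.left ≫ ·) (gamma_fst j V)).trans
        (Category.comp_id _))).symm
      exact (Category.assoc _ _ _).symm.trans ((congrArg (· ≫ _) (gamma_fst j V')).trans (Category.id_comp _))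
    · refine (Category.assoc _ _ _).trans ((congrArg (_ ≫ ·) (pullback.lift_snd _ _ _)).trans ?_)
      refine (pullback.lift_snd _ _ _).trans (Eq.symm ((Category.assoc _ _ _).trans ?_))
      exact (congrArg (g.left ≫ ·) (pullback.lift_snd _ _ _)).trans (MorphismProperty.Over.w g)
  refine (extSec_eq j ⟨?_, fun Ω _ _ ζ y hy => ?_⟩).symm
  · rw [← Functor.map_comp_apply, ← op_comp, hG, op_comp, Functor.map_comp_apply,
      (isExt_extSec j V s).1]
  · rw [germ_map]
    refine (isExt_extSec j V s).2 Ω ζ _ fun hmem => hy ?_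
    obtain ⟨z, hz⟩ := exists_map_gamma j _ hmem
    let yl : Spec (CommRingCat.of Ω) ⟶ (bcComp j V').left := y.left
    let z' : Spec (CommRingCat.of Ω) ⟶ V'.left := yl ≫ pullback.fst (V'.hom ≫ j) j
    have hzl : yl ≫ G.left = z.left ≫ (gamma j V).left := (congrArg CommaMorphism.left hz).symm
    have h1 : z' ≫ g.left = z.left := by
      have := congrArg (· ≫ pullback.fst (V.hom ≫ j) j) hzl
      refine Eq.trans ?_ (this.trans ((Category.assoc _ _ _).trans
        ((congrArg (_ ≫ ·) (gamma_fst j V)).trans (Category.comp_id _))))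
      exact (Category.assoc _ _ _).trans ((congrArg (yl ≫ ·) (pullback.lift_fst _ _ _).symm).trans
        (Category.assoc _ _ _).symm)
    have h2 : z' ≫ V'.hom = ζ := by
      refine ((congrArg (z' ≫ ·) (MorphismProperty.Over.w g)).symm.trans
        ((Category.assoc _ _ _).symm.trans ?_))
      exact (congrArg (· ≫ V.hom) h1).trans (Over.w z)
    have h3 : yl = z' ≫ (gamma j V').left := by
      refine pullback.hom_ext ?_ ?_
      · exact ((Category.assoc _ _ _).trans ((congrArg (_ ≫ ·) (gamma_fst j V')).trans (Category.comp_id _))).symm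
      · refine (Over.w y).trans (Eq.trans ?_ ((Category.assoc _ _ _).trans
          (congrArg (z' ≫ ·) (pullback.lift_snd _ _ _))).symm)
        exact h2.symm
    exact ⟨z' default, (congrArg (fun r : Spec (CommRingCat.of Ω) ⟶ (bcComp j V').left => r default) h3).symm⟩

variable [EtShriek.JCont j]

/-- The map `F ⟶ j^{-1} j_* F`. -/
noncomputable def toRestrPush (F : EtCoh.Ab U) :
    F ⟶ (EtShriek.restrAlong j).obj ((EtCoh.push j).obj F) where
  hom :=
    { app := fun V => AddCommGrpCat.ofHom (AddMonoidHom.mk' (extSec j V.unop) (extSec_add j V.unop))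
      naturality := fun V V' g => AddCommGrpCat.ext fun s => (extSec_map j g.unop s).symm }

theorem toRestrPush_nat {F G : EtCoh.Ab U} (a : F ⟶ G) :
    a ≫ toRestrPush j G = toRestrPush j F ≫ (EtShriek.restrAlong j).map ((EtCoh.push j).map a) := by
  refine Sheaf.hom_ext (NatTrans.ext (funext fun V => AddCommGrpCat.ext fun s => ?_))
  refine extSec_eq j ⟨?_, fun Ω _ _ ζ y hy => ?_⟩
  · show G.obj.map (gamma j V.unop).op (a.hom.app _ (extSec j V.unop s)) = a.hom.app _ s
    rw [← NatTrans.naturality_apply, (isExt_extSec j V.unop s).1]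
  · show germ ζ G y (a.hom.app _ (extSec j V.unop s)) = 0
    rw [← germ_nat, (isExt_extSec j V.unop s).2 Ω ζ y hy, map_zero]

/-- The comparison `j_! ⟶ j_*`. -/
noncomputable def toPush : EtShriek.extZero j ⟶ EtCoh.push j where
  app F := ((EtShriek.extZeroAdj j).homEquiv _ _).symm (toRestrPush j F)
  naturality F G a := by
    rw [← Adjunction.homEquiv_naturality_left_symm, ← Adjunction.homEquiv_naturality_right_symm,
      toRestrPush_nat]

theorem unit_toPush (F : EtCoh.Ab U) (V : U.Etale) (s : F.obj.obj (op V)) :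
    ((toPush j).app F).hom.app (op ((EtShriek.compEtale j).obj V))
      (((EtShriek.extZeroAdj j).unit.app F).hom.app (op V) s) = extSec j V s := by
  have h := ((EtShriek.extZeroAdj j).homEquiv F ((EtCoh.push j).obj F)).apply_symm_apply (toRestrPush j F)
  rw [Adjunction.homEquiv_unit] at h
  exact ConcreteCategory.congr_hom (congrArg (fun t : F ⟶ (EtShriek.restrAlong j).obj
    ((EtCoh.push j).obj F) => t.hom.app (op V)) h) s

section Stalk

variable {Ω : Type u} [Field Ω] [IsAlgClosed Ω] (ξ : Spec (CommRingCat.of Ω) ⟶ X)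

theorem liftStalk_toPush (F : EtCoh.Ab U) (p l : lifts j ξ)
    (q : (EtCoh.stalk p.1).obj F) :
    liftStalk j ξ l F ((EtCoh.stalk ξ).map ((toPush j).app F)
      (sumToStalk j ξ F (Sigma.ι (fun p : lifts j ξ => (EtCoh.stalk p.1).obj F) p q))) =
    open scoped Classical in
    if h : p = l then h ▸ q else 0 := by
  classical
  obtain ⟨V, y, s, rfl⟩ := germ_surjective _ _ q
  have e := ConcreteCategory.congr_hom (ι_sumToStalk j ξ F p y) s
  simp only [ConcreteCategory.comp_apply] at e
  rw [e]
  refine (congrArg (liftStalk j ξ l F) (germ_nat ξ ((toPush j).app F) (compFib j ξ p y) _)).trans ?_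
  rw [unit_toPush, liftStalk_germ]
  split_ifs with h
  · subst h
    have : (Scheme.pointSmallEtale p.1).fiber.map (gamma j V) y =
        liftAt j ξ (compFib j ξ p y) p := by
      refine Over.OverMorphism.ext (pullback.hom_ext ?_ ?_)
      · refine Eq.trans ?_ (liftAt_left_fst j ξ (compFib j ξ p y) p).symm
        exact (Category.assoc _ _ _).trans ((congrArg (_ ≫ ·) (gamma_fst j V)).trans (Category.comp_id _))
      · exact (Over.w _).trans (Over.w (liftAt j ξ (compFib j ξ p y) p)).symm
    rw [← this, ← germ_map, (isExt_extSec j V s).1]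
  · refine (isExt_extSec j V s).2 Ω l.1 _ fun hmem => h ?_
    obtain ⟨z, hz⟩ := exists_map_gamma j _ hmem
    have hzl := congrArg CommaMorphism.left hz
    have h1 : z.left = y.left := by
      have := congrArg (· ≫ pullback.fst (V.hom ≫ j) j) hzl
      refine Eq.trans ?_ (this.trans (liftAt_left_fst j ξ (compFib j ξ p y) l))
      exact ((Category.assoc _ _ _).trans ((congrArg (_ ≫ ·) (gamma_fst j V)).trans (Category.comp_id _))).symm
    exact Subtype.ext ((Over.w y).symm.trans ((congrArg (· ≫ V.hom) h1.symm).trans (Over.w z)))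

theorem bijective_or_injective (F : EtCoh.Ab U) :
    Function.Injective (fun q (l : lifts j ξ) =>
        liftStalk j ξ l F ((EtCoh.stalk ξ).map ((toPush j).app F) (sumToStalk j ξ F q))) ∧
      (Finite (lifts j ξ) → Function.Surjective (fun q (l : lifts j ξ) =>
        liftStalk j ξ l F ((EtCoh.stalk ξ).map ((toPush j).app F) (sumToStalk j ξ F q)))) := by
  classical
  let A : lifts j ξ → AddCommGrpCat.{u + 1} := fun p => (EtCoh.stalk p.1).obj F
  let T : (∐ A : AddCommGrpCat.{u + 1}) →+ ∀ l, A l := AddMonoidHom.mk'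
    (fun q (l : lifts j ξ) =>
      liftStalk j ξ l F ((EtCoh.stalk ξ).map ((toPush j).app F) (sumToStalk j ξ F q)))
    (fun q q' => funext fun l => by simp only [map_add, Pi.add_apply])
  have hT : ∀ p (a : A p), T (Sigma.ι A p a) = Pi.single p a := fun p a => funext fun l => by
    refine (liftStalk_toPush j ξ F p l a).trans ?_
    split_ifs with h
    · subst h; rw [Pi.single_eq_same]
    · rw [Pi.single_eq_of_ne (Ne.symm h)]
  let inc : DirectSum (lifts j ξ) (fun p => A p) →+ (∐ A : AddCommGrpCat.{u + 1}) :=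
    DirectSum.toAddMonoid fun p => (Sigma.ι A p).hom
  let toD : (∐ A : AddCommGrpCat.{u + 1}) ⟶ AddCommGrpCat.of (DirectSum (lifts j ξ) fun p => A p) :=
    Sigma.desc fun p => AddCommGrpCat.ofHom (DirectSum.of (fun p => A p) p)
  have hto : toD ≫ AddCommGrpCat.ofHom inc = 𝟙 _ := Sigma.hom_ext _ _ fun p => by
    rw [← Category.assoc, Sigma.ι_desc, Category.comp_id]
    refine AddCommGrpCat.ext fun a => ?_
    show inc (DirectSum.of (fun p => A p) p a) = _
    exact DirectSum.toAddMonoid_of (fun p => (Sigma.ι A p).hom) p a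
  have hTinc : ∀ d l, T (inc d) l = d l := by
    intro d
    induction d using DirectSum.induction_on with
    | zero => simp
    | of p a => intro l; rw [DirectSum.toAddMonoid_of]; exact (congrFun (hT p a) l).trans (by
        by_cases h : l = p
        · subst h; rw [Pi.single_eq_same, DirectSum.of_eq_same]
        · rw [Pi.single_eq_of_ne h, DirectSum.of_eq_of_ne _ _ _ h])
    | add d d' hd hd' => intro l; rw [map_add, map_add, Pi.add_apply, hd, hd', DirectSum.add_apply]
  have hsurj : ∀ q, inc (toD q) = q := fun q => ConcreteCategory.congr_hom hto q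
  refine ⟨?_, fun hfin t => ?_⟩
  · show Function.Injective T
    refine (injective_iff_map_eq_zero T).2 fun q hq => ?_
    rw [← hsurj q]
    have : toD q = 0 := DFinsupp.ext fun l => by
      refine (hTinc (toD q) l).symm.trans ?_
      rw [hsurj, hq]; rfl
    rw [this, map_zero]
  · haveI := Fintype.ofFinite (lifts j ξ)
    refine ⟨∑ p, Sigma.ι A p (t p), ?_⟩
    show T _ = t
    rw [map_sum]
    simp only [hT]
    exact Finset.univ_sum_single t

end Stalk

theorem mono_toPush (F : EtCoh.Ab U) : Mono ((toPush j).app F) := by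
  refine (mono_iff_app_injective _).2 fun W s t hst => eq_of_agree _ fun x => ?_
  obtain ⟨Ω, _, _, ξ, φ, hφ⟩ := EtStalk.exists_algFib W.unop x
  refine hφ ▸ (mem_agree_iff_germ _ φ s t).2 ?_
  have hb := ConcreteCategory.bijective_of_isIso (stalkExtZero j ξ F).hom
  obtain ⟨a, ha⟩ := hb.2 (germ ξ _ φ s)
  obtain ⟨b, hb'⟩ := hb.2 (germ ξ _ φ t)
  refine ha.symm.trans (Eq.trans (congrArg _ ((bijective_or_injective j ξ F).1 (funext fun l => ?_))) hb')
  show liftStalk j ξ l F ((EtCoh.stalk ξ).map ((toPush j).app F) ((stalkExtZero j ξ F).hom a)) =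
    liftStalk j ξ l F ((EtCoh.stalk ξ).map ((toPush j).app F) ((stalkExtZero j ξ F).hom b))
  rw [ha, hb', germ_nat, germ_nat, hst]

theorem isIso_toPush [IsFinite j] (F : EtCoh.Ab U) : IsIso ((toPush j).app F) := by
  rw [isIso_iff_stalk_alg]
  intro Ω _ _ ξ
  haveI : Finite (lifts j ξ) := FiniteSplit.finite_liftsOfFinite j ξ
  obtain ⟨hi, hs⟩ := bijective_or_injective j ξ F
  have h := ((Function.Injective.of_comp_iff' (fun q (l : lifts j ξ) =>
      liftStalk j ξ l F ((EtCoh.stalk ξ).map ((toPush j).app F) q))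
    (ConcreteCategory.bijective_of_isIso (stalkExtZero j ξ F).hom)).1 hi)
  refine ⟨fun a b e => h (funext fun l => congrArg (liftStalk j ξ l F) e), fun q => ?_⟩
  obtain ⟨a, ha⟩ := hs inferInstance (fun l => liftStalk j ξ l F q)
  exact ⟨sumToStalk j ξ F a, (bijective_liftStalk j ξ F).1 ha⟩

end Groth.Agent.ExtShriek24
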