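import Groth.Agent.Lib.ExtShriek24.Iso
import Groth.Agent.Lib.ExtShriek24.ToPush
import Groth.Agent.Lib.Constr24.PushFinEt
import Groth.Agent.Lib.Constr24.Noeth
import Groth.Agent.Lib.EtStalk.ExtZero

/-!
# Extension by zero preserves constructibility
-/

universe u

set_option maxHeartbeats 800000

open CategoryTheory CategoryTheory.Limits AlgebraicGeometry Opposite Topology
open Groth.Agent.EtStalk Groth.Agent.Constr24

namespace Groth.Agent.ExtShriek24

variable {X U : Scheme.{u}}

theorem isConstructible_iso' {F G : EtCoh.Ab X} (e : F ≅ G) (h : EtPBC.IsConstructible F) :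
    EtPBC.IsConstructible G := fun W hW => by
  obtain ⟨n, T, g, h1, h2, h3, h4, h5⟩ := h W hW
  exact ⟨n, T, g, h1, h2, h3, h4, fun i => flc_iso ((EtCoh.pull (g i)).mapIso e) (h5 i)⟩

/-- The separated case. -/
theorem isConstructible_extZero_sep [CompactSpace X] [QuasiSeparatedSpace X] (j : U ⟶ X)
    [AlgebraicGeometry.Etale j] [IsSeparated j] [QuasiCompact j] [EtShriek.JCont j]
    {G : EtCoh.Ab U} (hG : EtPBC.IsConstructible G) :
    EtPBC.IsConstructible ((EtShriek.extZero j).obj G) := by
  obtain ⟨κ, _, T, c, hci, hcc, -, hcu, hcf⟩ := exists_strata_finite j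
  haveI : ∀ k : ULift.{u} κ, IsImmersion (c k.down) := fun k => hci _
  refine constructible_of_strata _ (fun k : ULift.{u} κ => T k.down) (fun k => c k.down)
    (fun k => hcc _) ?_ fun k => ?_
  · refine Set.eq_univ_of_forall fun s => ?_
    obtain ⟨k, hk⟩ := Set.mem_iUnion.1 (hcu.ge (Set.mem_univ s))
    exact Set.mem_iUnion.2 ⟨⟨k⟩, hk⟩
  · haveI := hcf k.down
    let p := pullback.snd j (c k.down)
    have h : IsPullback p (pullback.fst j (c k.down)) (c k.down) j :=
      (IsPullback.of_hasPullback j (c k.down)).flip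
    haveI := isIso_toPush p ((EtCoh.pull (pullback.fst j (c k.down))).obj G)
    exact isConstructible_iso' ((extZeroBC j (c k.down) p (pullback.fst j (c k.down)) h).app G)
      (isConstructible_iso' (asIso ((toPush p).app _)).symm
        (isConstructible_push p (isConstructible_pull _ hG)))

theorem mono_counit_open (j : U ⟶ X) [IsOpenImmersion j] (G : EtCoh.Ab X) :
    Mono ((EtShriek.extZeroAdj j).counit.app G) := by
  rw [mono_iff_stalk]
  intro Ω _ _ ξ
  by_cases h : ξ (default : Spec (CommRingCat.of Ω)) ∈ Set.range j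
  · obtain ⟨ζ, rfl⟩ := exists_lift_point_open j ξ h
    exact ((ConcreteCategory.isIso_iff_bijective _).1 (isIso_stalk_counit j G ζ)).1
  · have h1 := AddCommGrpCat.subsingleton_of_isZero
      (stalk_extZero_isZero j ((EtShriek.restrAlong j).obj G) ξ h)
    exact fun a b _ => @Subsingleton.elim _ h1 a b

theorem isZero_stalk_coker (j : U ⟶ X) [IsOpenImmersion j] (G : EtCoh.Ab X) {Ω : Type u} [Field Ω]
    [IsSepClosed Ω] (ξ : Spec (CommRingCat.of Ω) ⟶ X) (h : ξ default ∈ Set.range j) :
    IsZero ((EtCoh.stalk ξ).obj (cokernel ((EtShriek.extZeroAdj j).counit.app G))) := by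
  obtain ⟨ζ, rfl⟩ := exists_lift_point_open j ξ h
  have hsur := ((ConcreteCategory.isIso_iff_bijective _).1 (isIso_stalk_counit j G ζ)).2
  have hπ := (epi_iff_stalk (cokernel.π ((EtShriek.extZeroAdj j).counit.app G))).1 inferInstance Ω (ζ ≫ j)
  have : Subsingleton ((EtCoh.stalk (ζ ≫ j)).obj
      (cokernel ((EtShriek.extZeroAdj j).counit.app G))) := by
    refine subsingleton_of_forall_eq 0 fun q => ?_
    obtain ⟨r, rfl⟩ := hπ q
    obtain ⟨r', rfl⟩ := hsur r
    rw [← ConcreteCategory.comp_apply, ← Functor.map_comp, cokernel.condition, Functor.map_zero]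
    rfl
  exact AddCommGrpCat.isZero_of_subsingleton _

theorem isConstructible_extZero_aux [CompactSpace X] [QuasiSeparatedSpace X] :
    ∀ (n : ℕ) (U : Scheme.{u}) [CompactSpace U] [QuasiSeparatedSpace U] (f : U ⟶ X)
      [AlgebraicGeometry.Etale f] [EtShriek.JCont f] (W : Fin n → U.Opens)
      (_ : ∀ a, IsAffineOpen (W a)) (_ : (⋃ a, (W a : Set U)) = Set.univ) (G : EtCoh.Ab U),
      EtPBC.IsConstructible G → EtPBC.IsConstructible ((EtShriek.extZero f).obj G) := by
  intro n
  induction n with
  | zero =>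
    intro U _ _ f _ _ W _ hW G hG
    haveI : IsEmpty U := ⟨fun x => by
      obtain ⟨a, -⟩ := Set.mem_iUnion.1 (hW.ge (Set.mem_univ x)); exact a.elim0⟩
    haveI : IsAffine U := isAffine_of_isEmpty
    haveI : IsSeparated f := IsSeparated.of_comp f (terminal.from X)
    haveI : QuasiCompact f := quasiCompact_of_compactSpace f
    exact isConstructible_extZero_sep f hG
  | succ n ih =>
    intro U _ _ f _ _ W hW hcov G hG
    let B := W 0
    let A : U.Opens := ⨆ b : Fin n, W b.succ
    haveI : IsAffine B.toScheme := hW 0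
    haveI : CompactSpace A.toScheme := isCompact_iff_compactSpace.1 (by
      rw [TopologicalSpace.Opens.coe_iSup]
      exact isCompact_iUnion fun b => (hW b.succ).isCompact)
    haveI : QuasiSeparatedSpace A.toScheme :=
      QuasiSeparatedSpace.of_isOpenEmbedding A.ι.isOpenEmbedding
    haveI : QuasiCompact A.ι := quasiCompact_of_compactSpace A.ι
    haveI : EtShriek.JCont A.ι := inferInstance
    let cA := (EtShriek.extZeroAdj A.ι).counit.app G
    haveI : Mono cA := mono_counit_open A.ι G
    let Q := cokernel cA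
    -- the restriction of `G` to `A`
    have hGA : EtPBC.IsConstructible ((EtShriek.restrAlong A.ι).obj G) :=
      isConstructible_iso' ((restrPullIso A.ι).app G).symm (isConstructible_pull A.ι hG)
    have hX₁ : EtPBC.IsConstructible ((EtShriek.extZero f).obj
        ((EtShriek.extZero A.ι).obj ((EtShriek.restrAlong A.ι).obj G))) := by
      refine isConstructible_iso' ((extZeroComp A.ι f (A.ι ≫ f) rfl).app _).symm ?_
      refine ih A.toScheme (A.ι ≫ f) (fun b => A.ι ⁻¹ᵁ W b.succ) (fun b => ?_) ?_ _ hGA
      · exact (hW b.succ).preimage_of_isOpenImmersion A.ι (by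
          rw [A.opensRange_ι]; exact le_iSup (fun b : Fin n => W b.succ) b)
      · refine Set.eq_univ_of_forall fun x => ?_
        have hx : A.ι x ∈ (A : Set U) := x.2
        rw [TopologicalSpace.Opens.coe_iSup] at hx
        obtain ⟨b, hb⟩ := Set.mem_iUnion.1 hx
        exact Set.mem_iUnion.2 ⟨b, hb⟩
    -- the quotient lives on `B`
    have hQzero : ∀ (Ω : Type u) [Field Ω] [IsSepClosed Ω] (ξ : Spec (CommRingCat.of Ω) ⟶ U),
        ξ (default : Spec (CommRingCat.of Ω)) ∉ Set.range B.ι →
          IsZero ((EtCoh.stalk ξ).obj Q) := by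
      intro Ω _ _ ξ h
      refine isZero_stalk_coker A.ι G ξ ?_
      rw [A.range_ι, TopologicalSpace.Opens.coe_iSup]
      obtain ⟨a, ha⟩ := Set.mem_iUnion.1 (hcov.ge (Set.mem_univ (ξ default)))
      induction a using Fin.cases with
      | zero => exact absurd (by rw [B.range_ι]; exact ha) h
      | succ b => exact Set.mem_iUnion.2 ⟨b, ha⟩
    haveI := isIso_extZero_counit B.ι Q hQzero
    haveI : (EtShriek.restrAlong B.ι).IsLeftAdjoint := (restrPushAdj B.ι).isLeftAdjoint
    haveI : IsSeparated (B.ι ≫ f) := IsSeparated.of_comp (B.ι ≫ f) (terminal.from X)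
    haveI : QuasiCompact (B.ι ≫ f) := quasiCompact_of_compactSpace _
    have hQB : EtPBC.IsConstructible ((EtShriek.restrAlong B.ι).obj Q) := by
      refine isConstructible_iso' (PreservesCokernel.iso (EtShriek.restrAlong B.ι) cA).symm
        (constructible_cokernel _ ?_ ?_)
      · refine isConstructible_iso' ((restrPullIso B.ι).app _).symm ?_
        let p := pullback.snd A.ι B.ι
        have h : IsPullback p (pullback.fst A.ι B.ι) B.ι A.ι :=
          (IsPullback.of_hasPullback A.ι B.ι).flip
        haveI : IsSeparated p := inferInstance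
        exact isConstructible_iso' ((extZeroBC A.ι B.ι p (pullback.fst A.ι B.ι) h).app _)
          (isConstructible_extZero_sep p (isConstructible_pull _ hGA))
      · exact isConstructible_iso' ((restrPullIso B.ι).app G).symm (isConstructible_pull B.ι hG)
    have hX₃ : EtPBC.IsConstructible ((EtShriek.extZero f).obj Q) :=
      isConstructible_iso' ((EtShriek.extZero f).mapIso (asIso ((EtShriek.extZeroAdj B.ι).counit.app Q)))
        (isConstructible_iso' ((extZeroComp B.ι f (B.ι ≫ f) rfl).app _).symm
          (isConstructible_extZero_sep (B.ι ≫ f) hQB))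
    let S := ShortComplex.mk cA (cokernel.π cA) (cokernel.condition cA)
    have hS : S.ShortExact :=
      { exact := ShortComplex.exact_of_g_is_cokernel _ (cokernelIsCokernel cA)
        mono_f := ‹Mono cA›
        epi_g := inferInstanceAs (Epi (cokernel.π cA)) }
    haveI : (EtShriek.extZero f).IsLeftAdjoint := (EtShriek.extZeroAdj f).isLeftAdjoint
    exact constructible_extension (hS.map_of_exact (EtShriek.extZero f)) hX₁ hX₃

theorem isConstructible_extZero [CompactSpace X] [QuasiSeparatedSpace X] [CompactSpace U]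
    [QuasiSeparatedSpace U] (f : U ⟶ X) [AlgebraicGeometry.Etale f] [EtShriek.JCont f]
    {G : EtCoh.Ab U} (hG : EtPBC.IsConstructible G) :
    EtPBC.IsConstructible ((EtShriek.extZero f).obj G) := by
  classical
  obtain ⟨t, ht⟩ := (isCompact_univ (X := U)).elim_finite_subcover (fun V : U.affineOpens => (V.1 : Set U))
    (fun V => V.1.2) (fun x _ => by
      obtain ⟨V, hV, hxV, -⟩ := exists_affine_le (⊤ : U.Opens) (x := x) trivial
      exact Set.mem_iUnion.2 ⟨⟨V, hV⟩, hxV⟩)
  refine isConstructible_extZero_aux t.card U f (fun a => (t.equivFin.symm a).1.1)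
    (fun a => (t.equivFin.symm a).1.2) (Set.eq_univ_of_forall fun x => ?_) G hG
  obtain ⟨V, hV, hxV⟩ := Set.mem_iUnion₂.1 (ht (Set.mem_univ x))
  exact Set.mem_iUnion.2 ⟨t.equivFin ⟨V, hV⟩, by rw [Equiv.symm_apply_apply]; exact hxV⟩

end Groth.Agent.ExtShriek24
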