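import Groth.Agent.Lib.ExtShriek24.ToPush
import Groth.Agent.Lib.EtStalk.FiniteStalk
import Groth.Agent.Lib.Weight4.MultRank
import Groth.Agent.Lib.Weight4.GeomSum

/-!
# The trace of a finite étale morphism
-/

universe u

set_option maxHeartbeats 1000000

open CategoryTheory CategoryTheory.Limits AlgebraicGeometry Opposite
open Groth.Agent.EtStalk

namespace Groth.Agent.ExtShriek24

variable {U X : Scheme.{u}} (j : U ⟶ X) [IsFinite j] [AlgebraicGeometry.Etale j]

/-- A finite étale morphism has `finrank` geometric points over each geometric point. -/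
theorem card_lifts_eq_finrank [Flat j] {Ω : Type u} [Field Ω] [IsAlgClosed Ω]
    (ξ : Spec (CommRingCat.of Ω) ⟶ X) :
    Nat.card {a : Spec (CommRingCat.of Ω) ⟶ U // a ≫ j = ξ} = j.finrank (Weight.pt ξ) := by
  haveI : LocallyQuasiFinite j := FiniteSplit.locallyQuasiFinite_of_etale j
  have h1 : ∀ z : U, Weight.wt j z = 1 := fun z => by
    rw [Weight.wt_eq, Weight.lenFib_eq_one_of_map_eq _ (Weight.map_maximalIdeal_stalkMap j z),
      Weight.insDeg_eq_one]
    rfl
  have hfin := j.finite_preimage_singleton (Weight.pt ξ)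
  haveI := Weight.finite_lifts j (fun z => j.quasiFiniteAt z) ξ hfin
  have e := (Weight.fibreIntegral_wt_eq_finrank j (Weight.pt ξ)).symm.trans
    (Weight.fibreIntegral_eq j (fun z => j.quasiFiniteAt z) (Weight.wt j) ξ _ rfl hfin)
  simp only [h1] at e
  letI := Fintype.ofFinite {a : Spec (CommRingCat.of Ω) ⟶ U // a ≫ j = ξ}
  rw [finsum_eq_sum_of_fintype, Finset.sum_const, Finset.card_univ, nsmul_one] at e
  rw [Nat.card_eq_fintype_card]
  exact_mod_cast e.symm

variable [EtShriek.JCont j]

theorem isIso_toPush_nat : IsIso (toPush j) := by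
  haveI : ∀ F, IsIso ((toPush j).app F) := fun F => isIso_toPush j F
  exact NatIso.isIso_of_isIso_app _

/-- The trace. -/
noncomputable def trFinEt (F : EtCoh.Ab X) : (EtCoh.push j).obj ((EtShriek.restrAlong j).obj F) ⟶ F :=
  haveI := isIso_toPush j ((EtShriek.restrAlong j).obj F)
  inv ((toPush j).app ((EtShriek.restrAlong j).obj F)) ≫ (EtShriek.extZeroAdj j).counit.app F

theorem unit_trFinEt [Flat j] (d : ℕ) (hd : ∀ x : X, j.finrank x = d) (F : EtCoh.Ab X) :
    (restrPushAdj j).unit.app F ≫ trFinEt j F = d • 𝟙 F := by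
  refine Sheaf.hom_ext (NatTrans.ext (funext fun W => AddCommGrpCat.ext fun s => ?_))
  obtain ⟨W⟩ := W
  have hr : ∀ n : ℕ, ((n • 𝟙 F : F ⟶ F)).hom.app (op W) s = n • s := by
    intro n
    induction n with
    | zero => rw [zero_smul, zero_smul]; rfl
    | succ n ih => rw [succ_nsmul, succ_nsmul]; exact congrArg (· + s) ih
  rw [hr d]
  refine eq_of_agree F fun x => ?_
  obtain ⟨Ω, _, _, ξ, φ, rfl⟩ := EtStalk.exists_algFib W x
  rw [mem_agree_iff_germ, map_nsmul]
  classical
  haveI := isIso_toPush j ((EtShriek.restrAlong j).obj F)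
  haveI : Finite (lifts j ξ) := FiniteSplit.finite_liftsOfFinite j ξ
  letI := Fintype.ofFinite (lifts j ξ)
  let R := (EtShriek.restrAlong j).obj F
  let π : (EtShriek.compEtale j).obj ((EtCoh.bc j).obj W) ⟶ W :=
    MorphismProperty.Over.homMk (pullback.fst W.hom j) (pullback.condition (f := W.hom) (g := j))
  let t : R.obj.obj (op ((EtCoh.bc j).obj W)) := F.obj.map π.op s
  have hu : ((restrPushAdj j).unit.app F).hom.app (op W) s = t := by
    show F.obj.map ((compBcAdj j).counit.app W).op s = _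
    exact congrArg (fun g => F.obj.map (Quiver.Hom.op g) s) (MorphismProperty.Over.Hom.ext rfl)
  let c : ∀ p : lifts j ξ, (EtCoh.stalk p.1).obj R := fun p => germ p.1 R (liftAt j ξ φ p) t
  let z := ∑ p, sumToStalk j ξ R (Sigma.ι (fun p : lifts j ξ => (EtCoh.stalk p.1).obj R) p (c p))
  have hz : (EtCoh.stalk ξ).map ((toPush j).app R) z = germ ξ ((EtCoh.push j).obj R) φ t := by
    refine (bijective_liftStalk j ξ R).1 (funext fun l => ?_)
    dsimp only
    refine Eq.trans ?_ (liftStalk_germ j ξ l R φ t).symm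
    simp only [z, map_sum, liftStalk_toPush]
    refine (Finset.sum_eq_single l (fun p _ hp => dif_neg hp)
      (fun h => absurd (Finset.mem_univ l) h)).trans ?_
    rw [dif_pos rfl]
  have hε : ∀ p : lifts j ξ, (EtCoh.stalk ξ).map ((EtShriek.extZeroAdj j).counit.app F)
      (sumToStalk j ξ R (Sigma.ι (fun p : lifts j ξ => (EtCoh.stalk p.1).obj R) p (c p))) =
        germ ξ F φ s := by
    intro p
    have e := ConcreteCategory.congr_hom (ι_sumToStalk j ξ R p (liftAt j ξ φ p)) t
    simp only [ConcreteCategory.comp_apply] at e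
    rw [show Sigma.ι (fun p : lifts j ξ => (EtCoh.stalk p.1).obj R) p (c p) = _ from rfl, e]
    refine (germ_nat ξ ((EtShriek.extZeroAdj j).counit.app F) (compFib j ξ p (liftAt j ξ φ p)) _).trans ?_
    have hπ : (Scheme.pointSmallEtale ξ).fiber.map π (compFib j ξ p (liftAt j ξ φ p)) = φ :=
      Over.OverMorphism.ext (liftAt_left_fst j ξ φ p)
    refine Eq.trans (congrArg (germ ξ F (compFib j ξ p (liftAt j ξ φ p))) ?_)
      ((germ_map ξ F π (compFib j ξ p (liftAt j ξ φ p)) s).trans
        (congrArg (fun y => germ ξ F y s) hπ))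
    exact ConcreteCategory.congr_hom (congrArg (fun a : (EtShriek.restrAlong j).obj F ⟶
      (EtShriek.restrAlong j).obj F => a.hom.app (op ((EtCoh.bc j).obj W)))
      ((EtShriek.extZeroAdj j).right_triangle_components F)) (F.obj.map π.op s)
  refine Eq.trans (congrArg (germ ξ F φ) (show ((restrPushAdj j).unit.app F ≫ trFinEt j F).hom.app (op W) s =
    (trFinEt j F).hom.app (op W) t from congrArg ((trFinEt j F).hom.app (op W)) hu)) ?_
  rw [← germ_nat, ← hz, ← ConcreteCategory.comp_apply, ← Functor.map_comp,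
    show (toPush j).app R ≫ trFinEt j F = (EtShriek.extZeroAdj j).counit.app F from
      IsIso.hom_inv_id_assoc _ _, map_sum]
  simp only [hε]
  rw [Finset.sum_const, Finset.card_univ, ← Nat.card_eq_fintype_card,
    show Nat.card (lifts j ξ) = d from (card_lifts_eq_finrank j ξ).trans (hd _)]

theorem exists_adj_trace [Flat j] (d : ℕ) (hd : ∀ x : X, j.finrank x = d) :
    ∃ adj : EtCoh.push j ⊣ EtCoh.pull j,
      ∀ F : EtCoh.Ab X, (EtCoh.pullPushAdj j).unit.app F ≫ adj.counit.app F = d • 𝟙 F := by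
  haveI := isIso_toPush_nat j
  refine ⟨((EtShriek.extZeroAdj j).ofNatIsoLeft (asIso (toPush j))).ofNatIsoRight (restrPullIso j),
    fun F => ?_⟩
  refine Eq.trans ?_ (unit_trFinEt j d hd F)
  rw [← (Adjunction.unit_leftAdjointUniq_hom_app (restrPushAdj j) (EtCoh.pullPushAdj j) F)]
  simp only [Category.assoc]
  refine congrArg ((restrPushAdj j).unit.app F ≫ ·) ?_
  simp [Adjunction.ofNatIsoLeft, Adjunction.ofNatIsoRight, trFinEt, restrPullIso,
    ← Functor.map_comp_assoc]

end Groth.Agent.ExtShriek24
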