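import Groth.Agent.Lib.EtStalk.JCont
import Groth.Agent.Lib.EtStalk.Restr
import Groth.Agent.Lib.EtStalk.OpenImm
import Groth.Prelude.Def_PBC
import Mathlib.CategoryTheory.Sites.ConstantSheaf
import Mathlib.CategoryTheory.Limits.Shapes.Pullback.IsPullback.Basic

/-!
# Extension by zero: base change, composition, constant coefficients
-/

universe u

set_option maxHeartbeats 400000

open CategoryTheory CategoryTheory.Limits AlgebraicGeometry Opposite
open Groth.Agent.EtStalk

namespace Groth.Agent.ExtShriek24

variable {X : Scheme.{u}}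

/-- The top object of an étale scheme is terminal. -/
noncomputable def isTerminalTopObj (Y : Scheme.{u}) : IsTerminal (EtCoh.top Y) :=
  MorphismProperty.Over.mkIdTerminal _ Y

/-- The object of the site of `X` under the top of an étale `U`. -/
noncomputable def compTopIso (U : X.Etale) [AlgebraicGeometry.Etale U.hom] :
    (EtShriek.compEtale U.hom).obj (EtCoh.top U.left) ≅ U :=
  MorphismProperty.Over.isoMk (Iso.refl _)
    ((Category.id_comp _).trans (Category.id_comp _).symm)

/-- `j_! M` in terms of extension by zero along the structure morphism. -/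
noncomputable def extZeroConstIso (U : X.Etale) [AlgebraicGeometry.Etale U.hom] (M : Type)
    [AddCommGroup M] :
    EtPBC.extZeroConst U M ≅ (EtShriek.extZero U.hom).obj (EtCoh.const U.left M) :=
  let adj₁ := (constantSheafAdj (X.smallEtaleTopology.over U) AddCommGrpCat.{u + 1}
    (T := Over.mk (𝟙 U)) Over.mkIdTerminal).comp (EtPBC.extZeroAdj U)
  let adj₂ := (constantSheafAdj U.left.smallEtaleTopology AddCommGrpCat.{u + 1}
    (isTerminalTopObj U.left)).comp (EtShriek.extZeroAdj U.hom)
  (adj₁.leftAdjointUniq (adj₂.ofNatIsoRight (NatIso.ofComponents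
    (fun G => (G.obj.mapIso (compTopIso U).op).symm)
    (fun {G G'} a => (a.hom.naturality (compTopIso U).inv.op).symm)))).app _

section Comp

variable {U V : Scheme.{u}} (k : V ⟶ U) (j : U ⟶ X) [AlgebraicGeometry.Etale k]
  [AlgebraicGeometry.Etale j] [EtShriek.JCont k] [EtShriek.JCont j] (l : V ⟶ X)
  [AlgebraicGeometry.Etale l] [EtShriek.JCont l]

/-- Composition of the functors of sites. -/
noncomputable def compEtaleComp (w : k ≫ j = l) :
    EtShriek.compEtale k ⋙ EtShriek.compEtale j ≅ EtShriek.compEtale l :=
  NatIso.ofComponents (fun W => MorphismProperty.Over.isoMk (Iso.refl _) (by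
    show 𝟙 _ ≫ W.hom ≫ l = (W.hom ≫ k) ≫ j
    rw [Category.id_comp, Category.assoc, w]))
    (fun {W W'} g => MorphismProperty.Over.Hom.ext
      ((Category.comp_id _).trans (Category.id_comp _).symm))

/-- Restriction along a composite. -/
noncomputable def restrComp (w : k ≫ j = l) :
    EtShriek.restrAlong j ⋙ EtShriek.restrAlong k ≅ EtShriek.restrAlong l :=
  NatIso.ofComponents
    (fun G => (fullyFaithfulSheafToPresheaf _ _).preimageIso
      (Functor.isoWhiskerRight (NatIso.op (compEtaleComp k j l w)).symm G.obj))
    (fun {G G'} a => Sheaf.hom_ext (NatTrans.ext (funext fun W =>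
      (a.hom.naturality ((compEtaleComp k j l w).inv.app W.unop).op).symm)))

/-- Extension by zero along a composite. -/
noncomputable def extZeroComp (w : k ≫ j = l) :
    EtShriek.extZero k ⋙ EtShriek.extZero j ≅ EtShriek.extZero l :=
  ((EtShriek.extZeroAdj k).comp (EtShriek.extZeroAdj j)).leftAdjointUniq
    ((EtShriek.extZeroAdj l).ofNatIsoRight (restrComp k j l w).symm)

end Comp

section BaseChange

variable {V' V Y : Scheme.{u}} (j : V ⟶ X) [AlgebraicGeometry.Etale j] [EtShriek.JCont j]
  (f : Y ⟶ X) (j' : V' ⟶ Y) [AlgebraicGeometry.Etale j'] [EtShriek.JCont j'] (f' : V' ⟶ V)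
  (h : IsPullback j' f' f j)

include h in
theorem isPullback_paste (W : V.Etale) :
    IsPullback (pullback.fst W.hom f') (pullback.snd W.hom f' ≫ j') (W.hom ≫ j) f :=
  (IsPullback.of_hasPullback W.hom f').paste_vert h.flip

/-- The exchange of base change and composition on sites. -/
noncomputable def siteExchange :
    EtShriek.compEtale j ⋙ EtCoh.bc f ≅ EtCoh.bc f' ⋙ EtShriek.compEtale j' :=
  NatIso.ofComponents (fun W => MorphismProperty.Over.isoMk
    (isPullback_paste j f j' f' h W).isoPullback.symm
    (isPullback_paste j f j' f' h W).isoPullback_inv_snd)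
    (fun {W W'} g => by
      refine MorphismProperty.Over.Hom.ext ?_
      show _ ≫ (isPullback_paste j f j' f' h W').isoPullback.inv =
        (isPullback_paste j f j' f' h W).isoPullback.inv ≫ _
      rw [Iso.comp_inv_eq, Category.assoc]
      refine (Iso.eq_inv_comp _).2 ?_
      refine pullback.hom_ext ?_ ?_
      · refine ((Category.assoc _ _ _).trans ((congrArg (_ ≫ ·) (pullback.lift_fst _ _ _)).trans
          ((Category.assoc _ _ _).symm.trans
            (congrArg (· ≫ _) (isPullback_paste j f j' f' h W).isoPullback_hom_fst)))).trans ?_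
        refine Eq.symm ((Category.assoc _ _ _).trans ((congrArg (_ ≫ ·)
          (isPullback_paste j f j' f' h W').isoPullback_hom_fst).trans ?_))
        exact pullback.lift_fst _ _ _
      · refine ((Category.assoc _ _ _).trans ((congrArg (_ ≫ ·) (pullback.lift_snd _ _ _)).trans
          (isPullback_paste j f j' f' h W).isoPullback_hom_snd)).trans ?_
        refine Eq.symm ((Category.assoc _ _ _).trans ((congrArg (_ ≫ ·)
          (isPullback_paste j f j' f' h W').isoPullback_hom_snd).trans
            ((Category.assoc _ _ _).symm.trans ?_)))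
        exact congrArg (· ≫ j') (pullback.lift_snd _ _ _))

/-- Direct image commutes with restriction. -/
noncomputable def restrPush :
    EtShriek.restrAlong j' ⋙ EtCoh.push f' ≅ EtCoh.push f ⋙ EtShriek.restrAlong j :=
  NatIso.ofComponents
    (fun G => (fullyFaithfulSheafToPresheaf _ _).preimageIso
      (Functor.isoWhiskerRight (NatIso.op (siteExchange j f j' f' h)) G.obj))
    (fun {G G'} a => Sheaf.hom_ext (NatTrans.ext (funext fun W =>
      (a.hom.naturality ((siteExchange j f j' f' h).hom.app W.unop).op).symm)))

/-- Extension by zero commutes with inverse image. -/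
noncomputable def extZeroBC :
    EtCoh.pull f' ⋙ EtShriek.extZero j' ≅ EtShriek.extZero j ⋙ EtCoh.pull f :=
  (((EtCoh.pullPushAdj f').comp (EtShriek.extZeroAdj j')).ofNatIsoRight
    (restrPush j f j' f' h)).leftAdjointUniq ((EtShriek.extZeroAdj j).comp (EtCoh.pullPushAdj f))

end BaseChange

end Groth.Agent.ExtShriek24
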