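import Groth.Agent.Lib.EtStalk.OpenImm

/-!
# The gluing sequence of a closed immersion and the complementary open
-/

universe u

open CategoryTheory CategoryTheory.Limits AlgebraicGeometry Opposite

namespace Groth.Agent.ExtShriek24

theorem shortExact_extZero_pull {Z X : Scheme.{u}} (i : Z ⟶ X) [IsClosedImmersion i]
    (U : X.Opens) (hU : (U : Set X) = (Set.range i.base)ᶜ) [AlgebraicGeometry.Etale U.ι] [EtShriek.JCont U.ι]
    (F : EtCoh.Ab X) :
    ∃ w : (EtShriek.extZeroAdj U.ι).counit.app F ≫ (EtCoh.pullPushAdj i).unit.app F = 0,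
      (ShortComplex.mk _ _ w).ShortExact := by
  have hUr : Set.range U.ι.base = (Set.range i.base)ᶜ := (Scheme.Opens.range_ι U).trans hU
  have hcase : ∀ (Ω : Type u) [Field Ω] [IsSepClosed Ω] (ξ : Spec (CommRingCat.of Ω) ⟶ X),
      (∃ ζ, ζ ≫ i = ξ ∧ ξ (default : Spec (CommRingCat.of Ω)) ∉ Set.range U.ι) ∨
      (∃ ζ, ζ ≫ U.ι = ξ ∧ ξ (default : Spec (CommRingCat.of Ω)) ∉ Set.range i) := by
    intro Ω _ _ ξ
    by_cases h : ξ (default : Spec (CommRingCat.of Ω)) ∈ Set.range i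
    · obtain ⟨ζ, hζ⟩ := EtStalk.exists_lift_point i ξ h
      exact Or.inl ⟨ζ, hζ, fun h' => (hUr.subset h') h⟩
    · obtain ⟨ζ, hζ⟩ := EtStalk.exists_lift_point_open U.ι ξ (hUr.symm.subset h)
      exact Or.inr ⟨ζ, hζ, h⟩
  have w : (EtShriek.extZeroAdj U.ι).counit.app F ≫ (EtCoh.pullPushAdj i).unit.app F = 0 := by
    refine Sheaf.hom_ext (NatTrans.ext (funext fun V => ConcreteCategory.hom_ext _ _ fun s => ?_))
    obtain ⟨V⟩ := V
    refine EtStalk.ext_germ _ _ fun Ω _ _ ξ x => ?_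
    rw [← EtStalk.germ_nat, ← EtStalk.germ_nat, Functor.map_comp, ConcreteCategory.comp_apply,
      Functor.map_zero]
    rcases hcase Ω ξ with ⟨ζ, -, h⟩ | ⟨ζ, -, h⟩
    · have := AddCommGrpCat.subsingleton_of_isZero
        (EtStalk.stalk_extZero_isZero U.ι ((EtShriek.restrAlong U.ι).obj F) ξ h)
      rw [show EtStalk.germ ξ ((EtShriek.restrAlong U.ι ⋙ EtShriek.extZero U.ι).obj F) x s = 0 from
        @Subsingleton.elim _ this _ _, map_zero, map_zero]
      rfl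
    · exact @Subsingleton.elim _ (AddCommGrpCat.subsingleton_of_isZero
        (EtStalk.stalk_push_isZero i ((EtCoh.pull i).obj F) ξ h)) _ _
  refine ⟨w, ?_⟩
  have hm : Mono ((EtShriek.extZeroAdj U.ι).counit.app F) := by
    rw [EtStalk.mono_iff_stalk]
    intro Ω _ _ ξ
    rcases hcase Ω ξ with ⟨ζ, -, h⟩ | ⟨ζ, rfl, h⟩
    · have := AddCommGrpCat.subsingleton_of_isZero
        (EtStalk.stalk_extZero_isZero U.ι ((EtShriek.restrAlong U.ι).obj F) ξ h)
      exact fun a b _ => @Subsingleton.elim _ this a b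
    · exact ((ConcreteCategory.isIso_iff_bijective _).1 (EtStalk.isIso_stalk_counit U.ι F ζ)).1
  have hunit : ∀ (Ω : Type u) [Field Ω] [IsSepClosed Ω] (ζ : Spec (CommRingCat.of Ω) ⟶ Z),
      IsIso ((EtCoh.stalk (ζ ≫ i)).map ((EtCoh.pullPushAdj i).unit.app F)) := fun Ω _ _ ζ => by
    rw [show (EtCoh.stalk (ζ ≫ i)).map ((EtCoh.pullPushAdj i).unit.app F) =
      EtStalk.stalkPull i ζ F ≫ inv (EtStalk.pushStalk i ζ ((EtCoh.pull i).obj F)) by
        rw [IsIso.eq_comp_inv, EtStalk.unit_pushStalk]]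
    infer_instance
  have he : Epi ((EtCoh.pullPushAdj i).unit.app F) := by
    rw [EtStalk.epi_iff_stalk]
    intro Ω _ _ ξ
    rcases hcase Ω ξ with ⟨ζ, rfl, h⟩ | ⟨ζ, -, h⟩
    · exact ((ConcreteCategory.isIso_iff_bijective _).1 (hunit Ω ζ)).2
    · have := AddCommGrpCat.subsingleton_of_isZero
        (EtStalk.stalk_push_isZero i ((EtCoh.pull i).obj F) ξ h)
      exact fun b => ⟨0, @Subsingleton.elim _ this _ _⟩
  refine { exact := ?_, mono_f := hm, epi_g := he }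
  rw [EtStalk.exact_iff_stalk]
  intro Ω _ _ ξ
  rw [ShortComplex.ab_exact_iff]
  intro b hb
  rcases hcase Ω ξ with ⟨ζ, rfl, h⟩ | ⟨ζ, rfl, h⟩
  · refine ⟨0, (map_zero _).trans (((ConcreteCategory.isIso_iff_bijective _).1 (hunit Ω ζ)).1 ?_)⟩
    exact (map_zero _).trans hb.symm
  · exact ((ConcreteCategory.isIso_iff_bijective _).1 (EtStalk.isIso_stalk_counit U.ι F ζ)).2 b

end Groth.Agent.ExtShriek24
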