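import Groth.Agent.Lib.EtStalk.JCont
import Groth.Agent.Lib.EtStalk.Restr
import Groth.Agent.Lib.EtStalk.Pull

/-!
# The counit of extension by zero along a surjective étale morphism
-/

universe u

set_option maxHeartbeats 400000

open CategoryTheory CategoryTheory.Limits AlgebraicGeometry Opposite
open Groth.Agent.EtStalk

namespace Groth.Agent.ExtShriek24

variable {U X : Scheme.{u}} (j : U ⟶ X) [AlgebraicGeometry.Etale j] [EtShriek.JCont j]

theorem counit_stalk_surjective (F : EtCoh.Ab X) {Ω : Type u} [Field Ω] [IsSepClosed Ω]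
    (ξ : Spec (CommRingCat.of Ω) ⟶ X) (h : ξ default ∈ Set.range j) :
    Function.Surjective ((EtCoh.stalk ξ).map ((EtShriek.extZeroAdj j).counit.app F)) := by
  intro q
  obtain ⟨W, y, s, rfl⟩ := germ_surjective ξ F q
  obtain ⟨v, hv⟩ := h
  obtain ⟨p, -⟩ := Scheme.pointSmallEtaleFiberObjToPreimage_surjective ξ (s₀ := ξ default) rfl
    (Scheme.Etale.mk j) ⟨v, hv⟩
  let pl : Spec (CommRingCat.of Ω) ⟶ U := p.left
  have hpl : pl ≫ j = ξ := Over.w p
  let V : U.Etale := (EtCoh.bc j).obj W
  let π : (EtShriek.compEtale j).obj V ⟶ W :=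
    MorphismProperty.Over.homMk (pullback.fst W.hom j) (pullback.condition (f := W.hom) (g := j))
  let z : fib ξ ((EtShriek.compEtale j).obj V) :=
    Over.homMk (pullback.lift y.left pl ((Over.w y).trans hpl.symm)) (by
      show pullback.lift y.left pl _ ≫ pullback.snd W.hom j ≫ j = ξ
      exact (Category.assoc _ _ _).symm.trans ((congrArg (· ≫ j) (pullback.lift_snd _ _ _)).trans hpl))
  have hz : (Scheme.pointSmallEtale ξ).fiber.map π z = y :=
    Over.OverMorphism.ext (pullback.lift_fst _ _ _)
  let s' : ((EtShriek.restrAlong j).obj F).obj.obj (op V) := F.obj.map π.op s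
  refine ⟨germ ξ _ z (((EtShriek.extZeroAdj j).unit.app ((EtShriek.restrAlong j).obj F)).hom.app (op V) s'), ?_⟩
  rw [germ_nat, ← hz, ← germ_map]
  refine congrArg (germ ξ F z) ?_
  exact ConcreteCategory.congr_hom (congrArg (fun t : (EtShriek.restrAlong j).obj F ⟶
    (EtShriek.restrAlong j).obj F => t.hom.app (op V))
    ((EtShriek.extZeroAdj j).right_triangle_components F)) s'

theorem epi_counit [Surjective j] (F : EtCoh.Ab X) : Epi ((EtShriek.extZeroAdj j).counit.app F) :=
  (epi_iff_stalk _).2 fun _ _ _ ξ => counit_stalk_surjective j F ξ (j.surjective _)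

end Groth.Agent.ExtShriek24
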